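import Groth.Agent.Lib.RGamma27.CechExt
import Mathlib.Algebra.Homology.DerivedCategory.Fractions

/-!
# Maps from torsion objects to the extended Čech complex, over an arbitrary ring

If the cohomology of `L` is `g`-power torsion and `g` acts bijectively on every term of `E`, every
map `L → E` in the derived category is zero; hence `L → Č(fs; M)` and `L → M` agree.
-/

set_option autoImplicit false
universe u

open CategoryTheory CategoryTheory.Limits CategoryTheory.Pretriangulated

attribute [local instance] HasDerivedCategory.standard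

noncomputable section

namespace Groth.Agent.TorsBC27

open ExtCechLib

variable {A : Type u} [CommRing A]

/-- The cohomology classes are killed by powers of `g`. -/
def GTors (g : A) (X : DRing.Cx A) : Prop := ∀ (j : ℤ) (x : X.homology j), ∃ n : ℕ, g ^ n • x = 0

theorem GTors.of_quasiIso {g : A} {X Y : DRing.Cx A} (s : X ⟶ Y) [QuasiIso s] (h : GTors g Y) : GTors g X := by
  intro j x
  have : IsIso (HomologicalComplex.homologyMap s j) :=
    (quasiIsoAt_iff_isIso_homologyMap _ _).1 inferInstance
  obtain ⟨n, hn⟩ := h j (HomologicalComplex.homologyMap s j x)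
  refine ⟨n, ((ConcreteCategory.isIso_iff_bijective (HomologicalComplex.homologyMap s j)).1 inferInstance).1 ?_⟩
  rw [map_smul, hn, map_zero]

theorem bijective_pow {g : A} {M : Type u} [AddCommGroup M] [Module A M]
    (h : Function.Bijective fun x : M => g • x) : ∀ n : ℕ, Function.Bijective fun x : M => g ^ n • x
  | 0 => by
    simp only [pow_zero, one_smul]
    exact Function.bijective_id
  | n + 1 => by
    have := (bijective_pow h n).comp h
    simpa [Function.comp_def, ← mul_smul, ← pow_succ] using this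

theorem isIso_φg {g : A} (E : DRing.Cx A) (hE : ∀ i, Function.Bijective fun x : E.X i => g • x) :
    IsIso (φg g E) := by
  have : ∀ i, IsIso ((φg g E).f i) := fun i => by
    refine (ConcreteCategory.isIso_iff_bijective _).2 ⟨?_, fun x => ?_⟩
    · refine (injective_iff_map_eq_zero (ι g E i)).2 fun y hy => ?_
      obtain ⟨n, hn⟩ := (ι_eq_zero_iff g E).1 hy
      exact (bijective_pow (hE i) n).1 (hn.trans (smul_zero _).symm)
    · obtain ⟨n, y, hy⟩ := exists_num g E x
      obtain ⟨y', rfl⟩ := (bijective_pow (hE i) n).2 y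
      refine ⟨y', (g_bijective g E i n).1 ?_⟩
      show g ^ n • ι g E i y' = g ^ n • x
      rw [hy, map_smul]
  exact HomologicalComplex.Hom.isIso_of_components _

theorem isZero_Q_Lg {g : A} {X : DRing.Cx A} (hX : GTors g X) : IsZero (DerivedCategory.Q.obj (Lg g X)) := by
  refine (RGamma27.isZero_Q_iff _).2 fun j => (DMod.isZero_iff_subsingleton _).1 ?_
  refine (isZero_homology_iff _ _).2 fun x hx => ?_
  have hr := (exists_smul_eq_zero_iff X j g).1 (hX j)
  obtain ⟨n, hn⟩ := radical_loc (i := j - 1) (by omega) rfl (fun y hy => hr y ((mem_Cy X rfl).2 hy)) x hx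
  obtain ⟨w, hw⟩ := (mem_Bd _ (by omega : j - 1 + 1 = j)).1 ((mem_annBd _).1 hn)
  obtain ⟨w', rfl⟩ := (g_bijective g X (j - 1) n).2 w
  refine (mem_Bd _ (by omega : j - 1 + 1 = j)).2 ⟨w', (g_bijective g X j n).1 ?_⟩
  show g ^ n • dd (Lg g X) _ j w' = g ^ n • x
  rw [← map_smul]
  exact hw

/-- No nonzero maps from a torsion object into a complex on whose terms `g` is bijective. -/
theorem hom_eq_zero {g : A} {X E : DRing.Cx A} (hX : GTors g X)
    (hE : ∀ i, Function.Bijective fun x : E.X i => g • x)
    (f : DerivedCategory.Q.obj X ⟶ DerivedCategory.Q.obj E) : f = 0 := by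
  obtain ⟨X', s, hs, h, rfl⟩ := DerivedCategory.right_fac f
  have : QuasiIso s := (DerivedCategory.isIso_Q_map_iff_quasiIso _ _).1 hs
  suffices DerivedCategory.Q.map h = 0 by rw [this, comp_zero]
  have := isIso_φg E hE
  rw [← cancel_mono (DerivedCategory.Q.map (φg g E)), zero_comp, ← Functor.map_comp,
    show h ≫ φg g E = φg g X' ≫ (DerCA.locCx (Submonoid.powers g)).map h from by
      ext i : 1
      exact (DerCA.locUnit (Submonoid.powers g)).naturality (h.f i), Functor.map_comp]
  rw [(isZero_Q_Lg (hX.of_quasiIso s)).eq_of_tgt (DerivedCategory.Q.map (φg g X')) 0, zero_comp]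

theorem fst_comp_bijective {g : A} {K E : DRing.Cx A} (φ : K ⟶ E)
    (hE : ∀ i, Function.Bijective fun x : E.X i => g • x) {X : DRing.Cx A} (hX : GTors g X) :
    Function.Bijective (fun f : DerivedCategory.Q.obj X ⟶ DerivedCategory.Q.obj (CochainComplex.mappingCocone φ) =>
      f ≫ DerivedCategory.Q.map (CochainComplex.mappingCocone.fst φ)) := by
  have hT := DerivedCategory.mappingCocone_triangle_distinguished φ
  set T := DerivedCategory.Q.mapTriangle.obj (CochainComplex.mappingCocone.triangle φ)
  refine ⟨fun a b hab => sub_eq_zero.1 ?_, fun f => ?_⟩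
  · obtain ⟨h, hh⟩ := Triangle.coyoneda_exact₂ T.invRotate (inv_rot_of_distTriang _ hT) (a - b)
      (show (a - b) ≫ DerivedCategory.Q.map (CochainComplex.mappingCocone.fst φ) = 0 by
        rw [Preadditive.sub_comp, sub_eq_zero]; exact hab)
    let e : (DerivedCategory.Q.obj E)⟦(-1 : ℤ)⟧ ≅ DerivedCategory.Q.obj (E⟦(-1 : ℤ)⟧) :=
      ((DerivedCategory.Q.commShiftIso (-1 : ℤ)).app E).symm
    have hz : h = 0 := by
      have := hom_eq_zero hX (E := E⟦(-1 : ℤ)⟧) (fun i => hE (i + -1)) (h ≫ e.hom)
      exact (cancel_mono e.hom).1 (this.trans zero_comp.symm)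
    exact hh.trans (((congrArg (· ≫ T.invRotate.mor₁)) hz).trans zero_comp)
  · obtain ⟨h, hh⟩ := Triangle.coyoneda_exact₂ T hT f (hom_eq_zero hX hE _)
    exact ⟨h, hh.symm⟩

/-- `Č(fs; M) → M` is a bijection on maps out of torsion objects. -/
theorem exists_cech_map (M : ModuleCat.{u} A) : ∀ fs : List A,
    ∃ c : DerivedCategory.Q.obj (DerCA.extCech M fs) ⟶ (DerivedCategory.singleFunctor (ModuleCat.{u} A) 0).obj M,
      ∀ X : DRing.Cx A, (∀ g ∈ fs, GTors g X) →
        Function.Bijective (fun f : DerivedCategory.Q.obj X ⟶ DerivedCategory.Q.obj (DerCA.extCech M fs) => f ≫ c)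
  | [] => by
    refine ⟨((DerivedCategory.singleFunctorIsoCompQ (ModuleCat.{u} A) 0).app M).inv, fun X _ => ?_⟩
    exact ⟨fun a b h => (cancel_mono _).1 h,
      fun b => ⟨b ≫ ((DerivedCategory.singleFunctorIsoCompQ (ModuleCat.{u} A) 0).app M).hom,
        (Category.assoc _ _ _).trans ((congrArg (b ≫ ·)
          ((DerivedCategory.singleFunctorIsoCompQ (ModuleCat.{u} A) 0).app M).hom_inv_id).trans (Category.comp_id b))⟩⟩
  | g :: fs => by
    obtain ⟨c, hc⟩ := exists_cech_map M fs
    refine ⟨DerivedCategory.Q.map (CochainComplex.mappingCocone.fst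
      (DerCA.locCxUnit (Submonoid.powers g) (DerCA.extCech M fs))) ≫ c, fun X hX => ?_⟩
    have h := (hc X fun a ha => hX a (List.mem_cons_of_mem g ha)).comp (fst_comp_bijective
      (DerCA.locCxUnit (Submonoid.powers g) (DerCA.extCech M fs))
      (fun i => by simpa using ExtCechLib.g_bijective g (DerCA.extCech M fs) i 1) (hX g List.mem_cons_self))
    rw [funext fun f : DerivedCategory.Q.obj X ⟶ _ => (Category.assoc f _ _).symm]
    exact h

theorem gTors_extCech (M : ModuleCat.{u} A) (fs : List A) : ∀ g ∈ fs, GTors g (DerCA.extCech M fs) :=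
  fun g hg j x => by
    obtain ⟨n, -, hn⟩ := exists_pow_smul_extCechH M fs j x
    exact ⟨n, hn g hg⟩

end Groth.Agent.TorsBC27
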