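import Groth.Agent.Lib.TorsBC27.Tensor
import Groth.Agent.Lib.DBaseChange.Adj
import Groth.Agent.Lib.DBaseChange.ExtFlat
import Groth.Agent.Lib.DBaseChange.TorDescent
import Groth.Agent.Lib.KFlat.Module
import Groth.Prelude.Def_Wider
import Mathlib.CategoryTheory.Adjunction.Additive
import Mathlib.CategoryTheory.Shift.Basic
import Mathlib.RingTheory.Finiteness.Defs

/-!
# Hom out of power torsion modules is unchanged by a flat base change with `A/I ≅ B/IB`
-/

set_option autoImplicit false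
universe u

open CategoryTheory CategoryTheory.Limits CategoryTheory.MonoidalCategory TensorProduct

attribute [local instance] HasDerivedCategory.standard

noncomputable section

namespace Groth.Agent.TorsBC27

/-- Additive version of `Iso.homCongr`. -/
def congrAdd {C : Type*} [Category C] [Preadditive C] {X X' Y Y' : C} (e : X ≅ X') (f : Y ≅ Y') :
    (X ⟶ Y) ≃+ (X' ⟶ Y') :=
  { e.homCongr f with
    map_add' := fun a b => by
      show e.inv ≫ (a + b) ≫ f.hom = e.inv ≫ a ≫ f.hom + e.inv ≫ b ≫ f.hom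
      simp }

variable {A : Type u} [CommRing A]

/-- `Hom(L, Y⟦i⟧) = Hom(L⟦-i⟧, Y)`. -/
def shiftHomAdd (L Y : Dual.D A) (i : ℤ) : (L⟦-i⟧ ⟶ Y) ≃+ (L ⟶ Y⟦i⟧) :=
  have : (shiftEquiv (Dual.D A) i).symm.functor.Additive :=
    inferInstanceAs ((shiftFunctor (Dual.D A) (-i)).Additive)
  (shiftEquiv (Dual.D A) i).symm.toAdjunction.homAddEquiv L Y

theorem gTors_single (M : ModuleCat.{u} A) (i : ℤ) {g : A} (h : ∀ m : M, ∃ n : ℕ, g ^ n • m = 0) :
    GTors g ((HomologicalComplex.single (ModuleCat.{u} A) (ComplexShape.up ℤ) i).obj M) := by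
  intro j x
  obtain ⟨z, rfl⟩ := DMod.homologyπ_surjective _ j x
  suffices ∀ w : ((HomologicalComplex.single (ModuleCat.{u} A) (ComplexShape.up ℤ) i).obj M).X j,
      ∃ n : ℕ, g ^ n • w = 0 by
    obtain ⟨n, hn⟩ := this ((((HomologicalComplex.single (ModuleCat.{u} A) (ComplexShape.up ℤ) i).obj M).iCycles j).hom z)
    refine ⟨n, ?_⟩
    rw [← map_smul, show g ^ n • z = 0 from DMod.iCycles_injective _ j (by rw [map_smul, hn, map_zero]),
      map_zero]
  intro w
  by_cases hj : j = i
  · subst hj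
    let e := (HomologicalComplex.singleObjXSelf (ComplexShape.up ℤ) j M).toLinearEquiv
    obtain ⟨n, hn⟩ := h (e w)
    exact ⟨n, e.injective (by rw [map_smul, hn, map_zero])⟩
  · have := ModuleCat.subsingleton_of_isZero (HomologicalComplex.isZero_single_obj_X (ComplexShape.up ℤ) i M j hj)
    exact ⟨0, Subsingleton.elim _ _⟩

variable (B : Type u) [CommRing B] [Algebra A B] [Module.Flat A B] {I : Ideal A}

theorem nonempty_torsion_homEquiv (hI : I.FG)
    (hs : Function.Surjective ((Ideal.Quotient.mk (I.map (algebraMap A B))).comp (algebraMap A B)))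
    (hk : RingHom.ker ((Ideal.Quotient.mk (I.map (algebraMap A B))).comp (algebraMap A B)) = I)
    (M N : ModuleCat.{u} A) (hM : ∀ m : M, ∃ n : ℕ, ∀ a ∈ I ^ n, a • m = 0) (i : ℤ) :
    Nonempty (((DerivedCategory.singleFunctor (ModuleCat.{u} A) 0).obj M ⟶
        ((DerivedCategory.singleFunctor (ModuleCat.{u} A) 0).obj N)⟦i⟧) ≃+
      ((DerivedCategory.singleFunctor (ModuleCat.{u} A) 0).obj M ⟶
        ((DerivedCategory.singleFunctor (ModuleCat.{u} A) 0).obj ((tensorRight (ModuleCat.of A B)).obj N))⟦i⟧)) := by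
  obtain ⟨T, hT⟩ := hI
  have hspan : Ideal.span {y : A | y ∈ T.toList} = I := by rw [← hT]; congr 1; ext; simp
  have hmem : ∀ f ∈ T.toList, f ∈ I := fun f hf => hspan ▸ Ideal.subset_span hf
  let N' := (tensorRight (ModuleCat.of A B)).obj N
  let X := (HomologicalComplex.single (ModuleCat.{u} A) (ComplexShape.up ℤ) i).obj M
  have hX : ∀ g ∈ T.toList, GTors g X := fun g hg => gTors_single M i fun m =>
    (hM m).imp fun n hn => hn _ (Ideal.pow_mem_pow (hmem g hg) n)
  let e : ((DerivedCategory.singleFunctor (ModuleCat.{u} A) 0).obj M)⟦-i⟧ ≅ DerivedCategory.Q.obj X :=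
    (((DerivedCategory.singleFunctors (ModuleCat.{u} A)).shiftIso (-i) i 0 (by simp)).app M) ≪≫
      (DerivedCategory.singleFunctorIsoCompQ (ModuleCat.{u} A) i).app M
  let tr : ∀ Y : Dual.D A, ((DerivedCategory.singleFunctor (ModuleCat.{u} A) 0).obj M ⟶ Y⟦i⟧) ≃+
      (DerivedCategory.Q.obj X ⟶ Y) := fun Y =>
    (shiftHomAdd _ Y i).symm.trans (congrAdd e (Iso.refl Y))
  obtain ⟨c, hc⟩ := exists_cech_map N T.toList
  obtain ⟨c', hc'⟩ := exists_cech_map N' T.toList
  obtain ⟨a⟩ := exists_cech_tensor_iso (ModuleCat.of A B) N T.toList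
  have htors : ∀ (j : ℤ) (x : (DerCA.extCech N T.toList).homology j), ∃ k : ℕ, ∀ r ∈ I ^ k, r • x = 0 := by
    intro j x
    have h := (RGamma27.tors_iff T.toList).1 (fun g hg => gTors_extCech N T.toList g hg j x)
    rw [hspan] at h
    exact h
  have : QuasiIso (oneCx B (DerCA.extCech N T.toList)) := quasiIso_oneCx B hs hk _ htors
  let q : DerivedCategory.Q.obj (DerCA.extCech N T.toList) ≅ DerivedCategory.Q.obj (DerCA.extCech N' T.toList) :=
    @asIso _ _ _ _ (DerivedCategory.Q.map (oneCx B (DerCA.extCech N T.toList)))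
      ((DerivedCategory.isIso_Q_map_iff_quasiIso _ _).2 this) ≪≫ DerivedCategory.Q.mapIso a
  let p := AddEquiv.ofBijective (Preadditive.rightComp (DerivedCategory.Q.obj X) c) (hc X hX)
  let p' := AddEquiv.ofBijective (Preadditive.rightComp (DerivedCategory.Q.obj X) c') (hc' X hX)
  exact ⟨(tr _).trans (p.symm.trans ((congrAdd (Iso.refl _) q).trans (p'.trans (tr _).symm)))⟩

theorem isIso_valueMap_flat {A B : Type u} [CommRing A] [CommRing B] (φ : A →+* B) (hφ : φ.Flat)
    [DRing.HasLBaseChange φ] (P : DRing.Cx A) : IsIso ((DBaseChange.valueMap φ).app P) := by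
  let Φ : KFlat.Cover (ModuleCat.{u} A) := KFlat.Module.cover
  let π := (KFlat.resNatTrans Φ).app P
  have h0 := DBaseChange.isIso_valueMap φ ((KFlat.resFunctor Φ).obj P)
    ⟨KFlat.isKFlat_resObj Φ P KFlat.Module.isFlat_cover, KFlat.isKFlat_flip_resObj Φ P KFlat.Module.isFlat_cover,
      KFlat.isFlat_resObj_X Φ P KFlat.Module.isFlat_cover⟩
  have hπ : _root_.QuasiIso π := KFlat.quasiIso_resπ Φ P
  have : IsIso (DerivedCategory.Q.map π) := (DerivedCategory.isIso_Q_map_iff_quasiIso _ _).2 hπ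
  have : IsIso (DerivedCategory.Q.map ((DBaseChange.extCx φ).map π)) :=
    (DerivedCategory.isIso_Q_map_iff_quasiIso _ _).2 (DBaseChange.quasiIso_ext_of_flat hφ π)
  have hn : (DRing.LBaseChange φ).map (DerivedCategory.Q.map π) ≫ (DBaseChange.valueMap φ).app P =
      (DBaseChange.valueMap φ).app _ ≫ DerivedCategory.Q.map ((DBaseChange.extCx φ).map π) :=
    (DBaseChange.valueMap φ).naturality π
  have : IsIso ((DRing.LBaseChange φ).map (DerivedCategory.Q.map π) ≫ (DBaseChange.valueMap φ).app P) := by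
    rw [hn]; infer_instance
  exact IsIso.of_isIso_comp_left ((DRing.LBaseChange φ).map (DerivedCategory.Q.map π)) _

theorem nonempty_adjunction_equiv (M N : Type u) [AddCommGroup M] [Module A M] [AddCommGroup N] [Module A N]
    (i : ℤ) :
    Nonempty ((Dual.inD B (B ⊗[A] M) ⟶ (Dual.inD B (B ⊗[A] N))⟦i⟧) ≃+
      (Dual.inD A M ⟶ ((DerivedCategory.singleFunctor (ModuleCat.{u} A) 0).obj
        ((tensorRight (ModuleCat.of A B)).obj (ModuleCat.of A N)))⟦i⟧)) := by
  let φ := algebraMap A B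
  have : DRing.HasLBaseChange φ :=
    KFlat.hasLeftDerivedFunctor_mapHomotopyCategory (KFlat.Module.cover (R := A)) (ModuleCat.extendScalars φ)
      (fun K => KFlat.IsKFlat (KFlat.Module.TM A) K) (fun K => KFlat.isKFlat_resObj _ K KFlat.Module.isFlat_cover)
      fun g _ hK hK' => KFlat.Module.quasiIso_extendScalars_map φ g hK hK'
  obtain ⟨adj⟩ := DBaseChange.nonempty_adjunction φ
  have := adj.left_adjoint_additive
  let P := (HomologicalComplex.single (ModuleCat.{u} A) (ComplexShape.up ℤ) 0).obj (ModuleCat.of A M)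
  let e : DRing.toD P ≅ Dual.inD A M :=
    ((DerivedCategory.singleFunctorIsoCompQ (ModuleCat.{u} A) 0).app (ModuleCat.of A M)).symm
  obtain ⟨t⟩ := DBaseChange.nonempty_ext_inD_iso (B := B) M e
  have hv := isIso_valueMap_flat φ (RingHom.flat_algebraMap_iff.2 inferInstance) P
  let eM : Dual.inD B (B ⊗[A] M) ≅ (DRing.LBaseChange φ).obj (Dual.inD A M) :=
    t.symm ≪≫ (@asIso _ _ _ _ ((DBaseChange.valueMap φ).app P) hv).symm ≪≫ (DRing.LBaseChange φ).mapIso e
  let r : (ModuleCat.restrictScalars φ).obj (ModuleCat.of B (B ⊗[A] N)) ≅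
      (tensorRight (ModuleCat.of A B)).obj (ModuleCat.of A N) :=
    (show (ModuleCat.restrictScalars φ).obj (ModuleCat.of B (B ⊗[A] N)) ≃ₗ[A] N ⊗[A] B from
      { (TensorProduct.comm A B N).toAddEquiv with
        map_smul' := fun a (x : B ⊗[A] N) =>
          (congrArg (TensorProduct.comm A B N) (algebraMap_smul B a x)).trans
            (map_smul (TensorProduct.comm A B N) a x) }).toModuleIso
  let eN : (DRing.restrictD φ).obj ((Dual.inD B (B ⊗[A] N))⟦i⟧) ≅
      ((DerivedCategory.singleFunctor (ModuleCat.{u} A) 0).obj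
        ((tensorRight (ModuleCat.of A B)).obj (ModuleCat.of A N)))⟦i⟧ :=
    ((DRing.restrictD φ).commShiftIso i).app _ ≪≫ (shiftFunctor (Dual.D A) i).mapIso
      (((ModuleCat.restrictScalars.{u} φ).mapDerivedCategorySingleFunctor 0).app _ ≪≫
        (DerivedCategory.singleFunctor (ModuleCat.{u} A) 0).mapIso r)
  exact ⟨(congrAdd eM (Iso.refl _)).trans ((adj.homAddEquiv _ _).trans (congrAdd (Iso.refl _) eN))⟩

end Groth.Agent.TorsBC27
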