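import Mathlib.RingTheory.Flat.Basic
import Mathlib.RingTheory.Ideal.Maps
import Mathlib.LinearAlgebra.TensorProduct.Basic
import Mathlib.RingTheory.Ideal.Quotient.Operations
import Mathlib.Algebra.Module.Torsion.Basic
import Mathlib.LinearAlgebra.TensorProduct.RightExactness

/-!
# Power torsion modules along a flat map inducing `A/I ≅ B/IB`

If `A → B` is flat and `A/I ≅ B/IB`, then `H → H ⊗ B` is bijective for every `I`-power torsion
module `H`.
-/

set_option autoImplicit false
universe u v

open TensorProduct

noncomputable section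

namespace Groth.Agent.TorsBC27

variable {A B : Type u} [CommRing A] [CommRing B] [Algebra A B] {I : Ideal A}

/-- `h ↦ h ⊗ 1`. -/
abbrev oneR (B : Type u) [CommRing B] [Algebra A B] (H : Type v) [AddCommGroup H] [Module A H] :
    H →ₗ[A] H ⊗[A] B :=
  (TensorProduct.mk A H B).flip 1

theorem exists_sub_mem (hs : Function.Surjective ((Ideal.Quotient.mk (I.map (algebraMap A B))).comp (algebraMap A B)))
    (b : B) : ∃ a : A, b - algebraMap A B a ∈ I.map (algebraMap A B) := by
  obtain ⟨a, ha⟩ := hs (Ideal.Quotient.mk _ b)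
  exact ⟨a, Ideal.Quotient.eq.1 ha.symm⟩

theorem eq_zero_of_one_tmul_of_killed
    (hs : Function.Surjective ((Ideal.Quotient.mk (I.map (algebraMap A B))).comp (algebraMap A B)))
    (hk : RingHom.ker ((Ideal.Quotient.mk (I.map (algebraMap A B))).comp (algebraMap A B)) = I)
    {H : Type v} [AddCommGroup H] [Module A H] (hH : ∀ a ∈ I, ∀ h : H, a • h = 0) (h : H)
    (e : h ⊗ₜ[A] (1 : B) = 0) : h = 0 := by
  choose a ha using exists_sub_mem hs
  have huniq : ∀ x y : A, algebraMap A B x - algebraMap A B y ∈ I.map (algebraMap A B) → ∀ m : H, x • m = y • m := by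
    intro x y hxy m
    have : x - y ∈ I := by
      rw [← hk, RingHom.mem_ker, RingHom.comp_apply, Ideal.Quotient.eq_zero_iff_mem, map_sub]; exact hxy
    exact sub_eq_zero.1 (by rw [← sub_smul]; exact hH _ this m)
  let f : H →ₗ[A] B →ₗ[A] H := LinearMap.mk₂ A (fun m b => a b • m)
    (fun m m' b => smul_add _ _ _) (fun c m b => smul_comm _ _ _)
    (fun m b b' => by
      rw [← add_smul]
      refine huniq _ _ ?_ m
      rw [map_add]
      have := sub_mem (add_mem (ha b) (ha b')) (ha (b + b'))
      convert this using 1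
      ring)
    (fun c m b => by
      rw [← mul_smul]
      refine huniq _ _ ?_ m
      rw [map_mul]
      have := sub_mem ((I.map (algebraMap A B)).mul_mem_left (algebraMap A B c) (ha b)) (ha (c • b))
      convert this using 1
      rw [Algebra.smul_def]
      ring)
  have h1 : a 1 • h = 0 := by
    have := congrArg (TensorProduct.lift f) e
    rw [map_zero] at this
    exact this
  rw [← h1]
  refine (huniq _ _ ?_ h |>.trans (one_smul A h)).symm
  have := neg_mem (ha 1)
  rw [map_one]
  convert this using 1
  ring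

theorem mem_range_oneR_of_killed
    (hs : Function.Surjective ((Ideal.Quotient.mk (I.map (algebraMap A B))).comp (algebraMap A B)))
    {H : Type v} [AddCommGroup H] [Module A H] :
    ∀ (k : ℕ) (h : H), (∀ a ∈ I ^ k, a • h = 0) → ∀ b : B, h ⊗ₜ[A] b ∈ LinearMap.range (oneR (A := A) B H)
  | 0, h, hh, b => by
    have : h = 0 := by simpa using hh 1 (by simp)
    rw [this, zero_tmul]; exact zero_mem _
  | k + 1, h, hh, b => by
    obtain ⟨a, ha⟩ := exists_sub_mem hs b
    have h1 : ∀ y ∈ I.map (algebraMap A B), h ⊗ₜ[A] y ∈ LinearMap.range (oneR (A := A) B H) := by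
      intro y hy
      have : y ∈ I • (⊤ : Submodule A B) := by
        rw [Ideal.smul_top_eq_map]
        exact hy
      refine Submodule.smul_induction_on (p := fun y : B => h ⊗ₜ[A] y ∈ LinearMap.range (oneR (A := A) B H)) this
        (fun i hi z _ => ?_) fun y z hy hz => ?_
      · rw [← smul_tmul]
        refine mem_range_oneR_of_killed hs k (i • h) (fun x hx => ?_) z
        rw [← mul_smul]
        exact hh _ (by rw [pow_succ]; exact Ideal.mul_mem_mul hx hi)
      · rw [tmul_add]; exact add_mem hy hz
    have e : h ⊗ₜ[A] b = (a • h) ⊗ₜ[A] (1 : B) + h ⊗ₜ[A] (b - algebraMap A B a) := by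
      rw [smul_tmul, ← tmul_add, Algebra.smul_def, mul_one, add_sub_cancel]
    rw [e]
    exact add_mem ⟨a • h, rfl⟩ (h1 _ ha)

theorem eq_zero_of_one_tmul [Module.Flat A B]
    (hs : Function.Surjective ((Ideal.Quotient.mk (I.map (algebraMap A B))).comp (algebraMap A B)))
    (hk : RingHom.ker ((Ideal.Quotient.mk (I.map (algebraMap A B))).comp (algebraMap A B)) = I) :
    ∀ (k : ℕ) {H : Type v} [AddCommGroup H] [Module A H] (h : H), (∀ a ∈ I ^ k, a • h = 0) →
      h ⊗ₜ[A] (1 : B) = 0 → h = 0
  | 0, H, _, _, h, hh, _ => by simpa using hh 1 (by simp)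
  | k + 1, H, _, _, h, hh, e => by
    let S : Submodule A H := Submodule.span A {h}
    have he : (⟨h, Submodule.mem_span_singleton_self h⟩ : S) ⊗ₜ[A] (1 : B) = 0 := by
      refine Module.Flat.rTensor_preserves_injective_linearMap (M := B) S.subtype S.injective_subtype ?_
      rw [LinearMap.rTensor_tmul, map_zero]
      exact e
    let S' : Submodule A S := I • ⊤
    have hq : ∀ a ∈ I, ∀ q : S ⧸ S', a • q = 0 := fun a ha q => by
      obtain ⟨x, rfl⟩ := Submodule.Quotient.mk_surjective S' q
      rw [← Submodule.Quotient.mk_smul, Submodule.Quotient.mk_eq_zero]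
      exact Submodule.smul_mem_smul ha Submodule.mem_top
    have h0 : (⟨h, Submodule.mem_span_singleton_self h⟩ : S) ∈ S' := by
      rw [← Submodule.Quotient.mk_eq_zero]
      refine eq_zero_of_one_tmul_of_killed hs hk hq _ ?_
      have := congrArg (S'.mkQ.rTensor B) he
      rwa [LinearMap.rTensor_tmul, map_zero] at this
    have hk' : ∀ x : S, x ∈ S' → ∀ a ∈ I ^ k, a • x = 0 := by
      intro x hx a ha
      refine Submodule.smul_induction_on hx (fun i hi z _ => ?_) fun y z hy hz => by rw [smul_add, hy, hz, add_zero]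
      obtain ⟨c, hc⟩ := Submodule.mem_span_singleton.1 z.2
      ext
      rw [Submodule.coe_smul, Submodule.coe_smul, ← hc, ← mul_smul, ← mul_smul, Submodule.coe_zero,
        mul_comm (a * i) c, mul_smul, hh _ (by rw [pow_succ]; exact Ideal.mul_mem_mul ha hi), smul_zero]
    have := eq_zero_of_one_tmul hs hk k (H := S') ⟨_, h0⟩ (fun a ha => Subtype.ext (hk' _ h0 a ha)) (by
      refine Module.Flat.rTensor_preserves_injective_linearMap (M := B) S'.subtype S'.injective_subtype ?_
      rw [LinearMap.rTensor_tmul, map_zero]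
      exact he)
    exact congrArg (fun x : S' => x.1.1) this

/-- `H → H ⊗ B` is bijective for power torsion `H`. -/
theorem oneR_bijective [Module.Flat A B]
    (hs : Function.Surjective ((Ideal.Quotient.mk (I.map (algebraMap A B))).comp (algebraMap A B)))
    (hk : RingHom.ker ((Ideal.Quotient.mk (I.map (algebraMap A B))).comp (algebraMap A B)) = I)
    {H : Type v} [AddCommGroup H] [Module A H] (hH : ∀ h : H, ∃ k : ℕ, ∀ a ∈ I ^ k, a • h = 0) :
    Function.Bijective (oneR (A := A) B H) := by
  refine ⟨(injective_iff_map_eq_zero _).2 fun h e => ?_, fun z => ?_⟩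
  · obtain ⟨k, hk'⟩ := hH h
    exact eq_zero_of_one_tmul hs hk k h hk' e
  · show z ∈ LinearMap.range (oneR (A := A) B H)
    induction z with
    | zero => exact zero_mem _
    | tmul h b =>
      obtain ⟨k, hk'⟩ := hH h
      exact mem_range_oneR_of_killed hs k h hk' b
    | add x y hx hy => exact add_mem hx hy

end Groth.Agent.TorsBC27
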