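import Groth.Agent.Lib.RGamma27.CechExt
import Groth.Agent.Lib.TorsBC27.Alg
import Groth.Agent.Lib.TorsBC27.Hom
import Mathlib.CategoryTheory.Monoidal.Preadditive
import Mathlib.Algebra.Category.ModuleCat.Monoidal.Basic

/-!
# The extended Čech complex commutes with tensoring; power torsion homology is unchanged by `⊗ B`
-/

set_option autoImplicit false
universe u

open CategoryTheory CategoryTheory.Limits CategoryTheory.MonoidalCategory TensorProduct

attribute [local instance] HasDerivedCategory.standard

noncomputable section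

namespace Groth.Agent.TorsBC27

variable {A : Type u} [CommRing A] (S : ModuleCat.{u} A)

/-- The localisation map, tensored. -/
abbrev tenLoc (g : A) (X : ModuleCat.{u} A) :
    (tensorRight S).obj X ⟶ (tensorRight S).obj ((DerCA.locFunctor (Submonoid.powers g)).obj X) :=
  (tensorRight S).map ((DerCA.locUnit (Submonoid.powers g)).app X)

theorem isLocalizedModule_tenLoc (g : A) (X : ModuleCat.{u} A) :
    IsLocalizedModule (Submonoid.powers g) (tenLoc S g X).hom :=
  inferInstanceAs (IsLocalizedModule (Submonoid.powers g)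
    (AlgebraTensorModule.rTensor A S (LocalizedModule.mkLinearMap (Submonoid.powers g) X)))

/-- Tensoring commutes with localisation. -/
def tenLocIso (g : A) (X : ModuleCat.{u} A) :
    (tensorRight S).obj ((DerCA.locFunctor (Submonoid.powers g)).obj X) ≅
      (DerCA.locFunctor (Submonoid.powers g)).obj ((tensorRight S).obj X) :=
  have := isLocalizedModule_tenLoc S g X
  (IsLocalizedModule.iso (Submonoid.powers g) (tenLoc S g X).hom).symm.toModuleIso

theorem tenLoc_iso (g : A) (X : ModuleCat.{u} A) :
    tenLoc S g X ≫ (tenLocIso S g X).hom = (DerCA.locUnit (Submonoid.powers g)).app ((tensorRight S).obj X) :=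
  have := isLocalizedModule_tenLoc S g X
  ModuleCat.hom_ext (IsLocalizedModule.iso_symm_comp (Submonoid.powers g) (tenLoc S g X).hom)

theorem tenLocIso_natural (g : A) {X Y : ModuleCat.{u} A} (f : X ⟶ Y) :
    (tenLocIso S g X).hom ≫ (DerCA.locFunctor (Submonoid.powers g)).map ((tensorRight S).map f) =
      (tensorRight S).map ((DerCA.locFunctor (Submonoid.powers g)).map f) ≫ (tenLocIso S g Y).hom := by
  have := isLocalizedModule_tenLoc S g X
  apply ModuleCat.hom_ext
  refine IsLocalizedModule.ext (Submonoid.powers g) (tenLoc S g X).hom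
    (IsLocalizedModule.map_units (LocalizedModule.mkLinearMap (Submonoid.powers g) ((tensorRight S).obj Y))) ?_
  refine congrArg ModuleCat.Hom.hom (a₁ := tenLoc S g X ≫ (tenLocIso S g X).hom ≫ _) (a₂ := tenLoc S g X ≫ _ ≫ _) ?_
  rw [reassoc_of% (tenLoc_iso S g X), ← (DerCA.locUnit (Submonoid.powers g)).naturality, ← Functor.map_comp_assoc,
    ← (DerCA.locUnit (Submonoid.powers g)).naturality, Functor.map_comp_assoc]
  exact congrArg ((tensorRight S).map f ≫ ·) (tenLoc_iso S g Y).symm

/-- Termwise tensor product with `S`. -/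
abbrev tenCx : DRing.Cx A ⥤ DRing.Cx A := (tensorRight S).mapHomologicalComplex (ComplexShape.up ℤ)

theorem exists_cech_tensor_iso (M : ModuleCat.{u} A) : ∀ fs : List A,
    Nonempty ((tenCx S).obj (DerCA.extCech M fs) ≅ DerCA.extCech ((tensorRight S).obj M) fs)
  | [] => ⟨(HomologicalComplex.singleMapHomologicalComplex (tensorRight S) (ComplexShape.up ℤ) 0).app M⟩
  | g :: fs => by
    obtain ⟨a⟩ := exists_cech_tensor_iso M fs
    let C := DerCA.extCech M fs
    let C' := DerCA.extCech ((tensorRight S).obj M) fs
    let l : (tenCx S).obj ((DerCA.locCx (Submonoid.powers g)).obj C) ≅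
        (DerCA.locCx (Submonoid.powers g)).obj ((tenCx S).obj C) :=
      HomologicalComplex.Hom.isoOfComponents (fun i => tenLocIso S g (C.X i)) fun i j _ =>
        tenLocIso_natural S g (C.d i j)
    have hl : (tenCx S).map (DerCA.locCxUnit (Submonoid.powers g) C) ≫ l.hom =
        DerCA.locCxUnit (Submonoid.powers g) ((tenCx S).obj C) := by
      ext i : 1
      exact tenLoc_iso S g (C.X i)
    obtain ⟨c⟩ := RGamma27.nonempty_cone_iso ((tenCx S).map (DerCA.locCxUnit (Submonoid.powers g) C))
      (DerCA.locCxUnit (Submonoid.powers g) C') a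
      (l ≪≫ (DerCA.locCx (Submonoid.powers g)).mapIso a) (by
        rw [Iso.trans_hom, reassoc_of% hl]
        ext i : 1
        exact ((DerCA.locUnit (Submonoid.powers g)).naturality (a.hom.f i)).symm)
    exact ⟨((tenCx S).commShiftIso (-1 : ℤ)).app
        (CochainComplex.mappingCone (DerCA.locCxUnit (Submonoid.powers g) C)) ≪≫
      (shiftFunctor (DRing.Cx A) (-1 : ℤ)).mapIso
        (CochainComplex.mappingCone.mapHomologicalComplexIso _ (tensorRight S) ≪≫ c)⟩

variable (B : Type u) [CommRing B] [Algebra A B]

/-- `x ↦ x ⊗ 1`, naturally. -/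
def oneTrans : 𝟭 (ModuleCat.{u} A) ⟶ tensorRight (ModuleCat.of A B) where
  app X := ModuleCat.ofHom (X := X) (Y := X ⊗[A] B) (oneR (A := A) B X)
  naturality X Y f := ModuleCat.hom_ext (LinearMap.ext fun x => rfl)

theorem preservesHomology_tensorRight [Module.Flat A B] :
    (tensorRight (ModuleCat.of A B)).PreservesHomology :=
  Functor.preservesHomology_of_map_exact _ fun T hT =>
    (ShortComplex.ShortExact.moduleCat_exact_iff_function_exact _).2
      (Module.Flat.rTensor_exact (M := B) ((ShortComplex.ShortExact.moduleCat_exact_iff_function_exact _).1 hT))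

/-- `C ⟶ C ⊗ B`. -/
def oneCx (C : DRing.Cx A) : C ⟶ (tenCx (ModuleCat.of A B)).obj C where
  f i := (oneTrans B).app (C.X i)
  comm' i j _ := ((oneTrans B).naturality (C.d i j)).symm

theorem quasiIso_oneCx [Module.Flat A B] {I : Ideal A}
    (hs : Function.Surjective ((Ideal.Quotient.mk (I.map (algebraMap A B))).comp (algebraMap A B)))
    (hk : RingHom.ker ((Ideal.Quotient.mk (I.map (algebraMap A B))).comp (algebraMap A B)) = I)
    (C : DRing.Cx A) (hC : ∀ (j : ℤ) (x : C.homology j), ∃ k : ℕ, ∀ a ∈ I ^ k, a • x = 0) :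
    QuasiIso (oneCx B C) := by
  have := preservesHomology_tensorRight (A := A) B
  refine ⟨fun j => (quasiIsoAt_iff_isIso_homologyMap _ _).2 ?_⟩
  show IsIso (ShortComplex.homologyMap ((C.sc j).mapNatTrans (oneTrans B)))
  rw [ShortComplex.homologyMap_mapNatTrans]
  have : IsIso ((oneTrans B).app ((C.sc j).homology)) :=
    (ConcreteCategory.isIso_iff_bijective _).2 (oneR_bijective hs hk (hC j))
  infer_instance

end Groth.Agent.TorsBC27
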